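import Groth.Agent.ResProp.EF.K701.OutOne
import Groth.Prelude.Def_GLin5

/-!
# `O(GL_n)` is the increasing union of the subspaces `O(M_n) det^(-K)`
-/

set_option autoImplicit false

universe u

open CoordGrp TensorProduct

namespace Groth.Agent.ResProp.EF.K619

variable {n : ℕ} {k : Type u} [CommRing k]

theorem toGLn_det : Mat.toGLn n k (Mat.det n k) = (GLn.det : GLn n k) := by
  have h : (Mat.toGLn n k : Mat n k →ₐ[k] GLn n k) (Mat.genMat n k).det = (GLn.genMat n k).det := by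
    rw [AlgHom.map_det]
    congr 1
    ext i j
    exact Mat.toGLn_X i j
  rw [GLn.det_eq]
  exact h

theorem toGLn_det_mul_Dinv : (Mat.toGLn n k : Mat n k →ₐ[k] GLn n k) (Mat.det n k) * GLn.Dinv = 1 := by
  have h : (Mat.toGLn n k : Mat n k →ₐ[k] GLn n k) (Mat.det n k) = (GLn.det : GLn n k) := toGLn_det
  rw [h, GLn.det_mul_Dinv]

/-- raising the exponent -/
theorem exists_of_le {a : GLn n k} {K L : ℕ} (hKL : K ≤ L)
    (h : ∃ b : Mat n k, (Mat.toGLn n k : Mat n k →ₐ[k] GLn n k) b * GLn.Dinv ^ K = a) :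
    ∃ b : Mat n k, (Mat.toGLn n k : Mat n k →ₐ[k] GLn n k) b * GLn.Dinv ^ L = a := by
  obtain ⟨b, hb⟩ := h
  obtain ⟨c, rfl⟩ := Nat.exists_eq_add_of_le hKL
  refine ⟨b * Mat.det n k ^ c, ?_⟩
  rw [map_mul, map_pow, pow_add, mul_assoc, mul_comm (GLn.Dinv ^ K), ← mul_assoc _ (GLn.Dinv ^ c),
    ← mul_pow, toGLn_det_mul_Dinv, one_pow, one_mul, hb]

theorem exists_mem (a : GLn n k) :
    ∃ (K : ℕ) (b : Mat n k), (Mat.toGLn n k : Mat n k →ₐ[k] GLn n k) b * GLn.Dinv ^ K = a := by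
  let ψ : MvPolynomial (GLPoly.Idx n) k →ₐ[k] GLn n k := GLn.mk n k
  have hψ : ∀ q, ∃ (K : ℕ) (b : Mat n k),
      (Mat.toGLn n k : Mat n k →ₐ[k] GLn n k) b * GLn.Dinv ^ K = ψ q := by
    intro q
    induction q using MvPolynomial.induction_on with
    | C c =>
      refine ⟨0, algebraMap k _ c, ?_⟩
      rw [pow_zero, mul_one, AlgHom.commutes]
      exact (AlgHom.commutes ψ c).symm
    | add p q hp hq =>
      obtain ⟨K, b, hb⟩ := hp
      obtain ⟨L, c, hc⟩ := hq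
      obtain ⟨b', hb'⟩ := exists_of_le (le_max_left K L) ⟨b, hb⟩
      obtain ⟨c', hc'⟩ := exists_of_le (le_max_right K L) ⟨c, hc⟩
      exact ⟨max K L, b' + c', by rw [map_add, add_mul, hb', hc', map_add]⟩
    | mul_X p s hp =>
      obtain ⟨K, b, hb⟩ := hp
      rcases s with ⟨i, j⟩ | ⟨⟩
      · refine ⟨K, b * Mat.X i j, ?_⟩
        have h1 : ψ (MvPolynomial.X (Sum.inl (i, j))) = GLn.X i j := rfl
        have h2 : (Mat.toGLn n k : Mat n k →ₐ[k] GLn n k) (Mat.X i j) = GLn.X i j := Mat.toGLn_X i j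
        rw [map_mul, map_mul, h1, h2, ← hb]
        ring
      · refine ⟨K + 1, b, ?_⟩
        have h0 : ψ (MvPolynomial.X (Sum.inr ())) = GLn.Dinv := rfl
        rw [map_mul, h0, ← hb, pow_succ, mul_assoc]
  obtain ⟨q, rfl⟩ := Ideal.Quotient.mk_surjective a
  exact hψ q

/-- a finite set is contained in `O(M_n) det^(-K)` for all large `K` -/
theorem exists_finset (F : Finset (GLn n k)) : ∃ K₀ : ℕ, ∀ K : ℕ, K₀ ≤ K → ∀ a ∈ F,
    ∃ b : Mat n k, (Mat.toGLn n k : Mat n k →ₐ[k] GLn n k) b * GLn.Dinv ^ K = a := by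
  classical
  induction F using Finset.induction_on with
  | empty => exact ⟨0, fun K _ a ha => absurd ha (Finset.notMem_empty a)⟩
  | insert a s _ ih =>
    obtain ⟨K₁, h₁⟩ := ih
    obtain ⟨K₂, b, hb⟩ := exists_mem a
    refine ⟨max K₁ K₂, fun K hK c hc => ?_⟩
    rcases Finset.mem_insert.1 hc with rfl | hc
    · exact exists_of_le (le_trans (le_max_right _ _) hK) ⟨b, hb⟩
    · exact h₁ K (le_trans (le_max_left _ _) hK) c hc

/-- the same in the notation of `K701.Out` -/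
theorem exists_finset_range (F : Finset (GLn n k)) : ∃ K₀ : ℕ, ∀ K : ℕ, K₀ ≤ K → ∀ a ∈ F,
    a ∈ LinearMap.range (K701.Out.iotaK (k := k) (Mat.toGLn n k : Mat n k →ₐ[k] GLn n k)
      (GLn.Dinv : GLn n k) K) := by
  obtain ⟨K₀, h⟩ := exists_finset F
  exact ⟨K₀, fun K hK a ha => h K hK a ha⟩

end Groth.Agent.ResProp.EF.K619
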